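import Cfsg.Agent.H72.GFD

/-!
For `q > 2` a root subgroup commuting with an extremal root subgroup `A` centralizes the group
`SL₂(q)` attached to `A`.
-/

set_option autoImplicit false
set_option linter.unusedSectionVars false
set_option linter.unusedVariables false

namespace Cfsg.Agent.H72

open Subgroup Cfsg.Agent.H70 Cfsg.Agent.H92
open Cfsg.Agent.H69 (fixA dl dl_apply smul_eq_add_dl dl_conj dl_eq_zero mem_fixA fixA_anti fixA_sup
  SL2 up lo wn dg mulVec_two sl2_ext sl2_mul_apply sl2_inv10 sl2_inv11 wn00 wn01 wn10 wn11 dg00 dg01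
  dg10 dg11 card_mul_card_le_add)
open scoped Matrix

variable {Γ : Type*} [Group Γ] {V : Type*} [AddCommGroup V] [DistribMulAction Γ V] {p : ℕ}
  {F : Type*} [Field F] {σ : SL2 F →* Γ} {ψ : V →+ (Fin 2 → F)} {A : Subgroup Γ}
  [hp : Fact p.Prime] [Finite Γ] [Finite V]

theorem G0.stepA (h : G0 Γ V p) (hA : InN V p A) (hn : Nat2 F σ ψ A) [Finite F] {μ₀ : F}
    (h0 : μ₀ ≠ 0) (h1 : μ₀ ≠ 1) {A' : Subgroup Γ} (hA' : InN V p A') (hne : A' ≠ A)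
    (hc : A' ≤ centralizer (A : Set Γ)) (d1 : Nat.card A' ≤ Nat.card A)
    (d2 : Nat.card A' = Nat.card A → Nat.card (cmA V A) ≤ Nat.card (cmA V A')) :
    cmA V A' ≤ fixA V σ.range := by
  have p1 := h.prp hA' hA hc
  have p2 := h.prp hA hA' (cent_comm.1 hc)
  have hs := h.fix_sup hA' hA hne hc
  have qA := h.quad hA
  have qA' := h.quad hA'
  have qX : Prp V (A ⊔ A') (A ⊔ A') := (qA.sup_left p1).sup_right (p2.sup_left qA')
  have pX : cmA V A ≤ fixA V (A ⊔ A') := prp_iff.1 (qA.sup_right p2)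
  have pV : 0 < Nat.card V := Nat.card_pos
  have msX : Nat.card V ≤ ms V (A ⊔ A') := (ms_sup_inf (h.ms_eq hA) (h.ms_eq hA')
    (h.ms_le_of_prp qX) (by rw [h.ti hA hA' hne.symm, ms_bot])).1.ge
  have dec : ∀ v : V, ∃ w ∈ fixA V A, ∀ a ∈ A', dl a v = dl a w := fun v => by
    obtain ⟨u, hu, w, hw, rfl⟩ := AddSubgroup.mem_sup.1 (hs.ge (AddSubgroup.mem_top v))
    exact ⟨w, hw, fun a ha => by rw [map_add, dl_eq_zero ha hu, zero_add]⟩
  have dN : ∀ (μ : F) (hμ : μ ≠ 0), σ (dg μ hμ) ∈ normalizer (A : Set Γ) := fun μ hμ =>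
    hn.mem_norm (dg10 μ hμ)
  have kD : ∀ d ∈ σ.range, d ∈ normalizer (A : Set Γ) → ∀ v ∈ fixA V (A ⊔ A'),
      d • v ∈ fixA V (A ⊔ A') := fun d hd hd' v hv =>
    smul_mem_of_dl_mem (pX (hn.dl_mem_cmA hd hd' (fixA_anti le_sup_left hv))) hv
  have k2 : ∀ (μ : F) (hμ : μ ≠ 0), ∀ a ∈ A', ∃ c : F, ∃ b ∈ A',
      σ (up c) * b = σ (dg μ hμ) * a * (σ (dg μ hμ))⁻¹ ∧
        ∀ v ∈ fixA V A, dl b v = σ (dg μ hμ) • dl a v := fun μ hμ a ha => by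
    have hd : σ (dg μ hμ) ∈ σ.range := ⟨_, rfl⟩
    have k1 : H70.cj (σ (dg μ hμ)) A' ≤ A ⊔ A' := h.le_of_ms msX qX (fun v hv => by
      have := kD _ hd (dN μ hμ) _ (prp_iff.1 (p1.sup_right qA') (mem_cmA_cj.1 hv))
      rwa [smul_inv_smul] at this) fun v hv => mem_fix_cj.2 (fixA_anti le_sup_right
        (kD _ (inv_mem hd) (inv_mem (dN μ hμ)) v hv))
    obtain ⟨a₁, ha₁, b, hb, e⟩ :=
      (mem_sup_of_norm (norm_of_cent (cent_comm.1 hc))).1 (k1 (conj_mem_cj _ ha))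
    obtain ⟨c, rfl⟩ := (hn.mem _).1 ha₁
    refine ⟨c, b, hb, e, fun v hv => ?_⟩
    have e1 := qX.dl_mul (mem_sup_left ha₁) (mem_sup_right hb) v
    rw [e, dl_conj, dl_eq_zero ha₁ hv, zero_add, smul_eq_add_dl _⁻¹, map_add, dl_eq_zero ha
      (prp_iff.1 p2 (hn.dl_mem_cmA (inv_mem hd) (inv_mem (dN μ hμ)) hv)), add_zero] at e1
    exact e1.symm
  by_contra hcon
  obtain ⟨a₀, ha₀, c₀, hc₀, ht⟩ : ∃ a ∈ A', ∃ c ∈ fixA V A, ψ (dl a c) 0 ≠ 0 := by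
    by_contra! e
    refine hcon (cmA_le_iff.2 fun a ha v => ?_)
    obtain ⟨w, hw, e'⟩ := dec v
    rw [e' a ha]; exact hn.mem_ker (e a ha w hw) (p1 a ha w)
  have surj : ∀ t, ∃ a ∈ A', ψ (dl a c₀) 0 = t := fun t => by
    by_cases t0 : t = 0
    · exact ⟨1, one_mem _, by rw [dl_one, map_zero, t0]; rfl⟩
    obtain ⟨c, b, hb, -, e⟩ := k2 _ (div_ne_zero t0 ht) a₀ ha₀
    exact ⟨b, hb, by rw [e c₀ hc₀, hn.dg0, div_mul_cancel₀ _ ht]⟩
  have cA' : Nat.card A' = Nat.card F := le_antisymm (d1.trans hn.card_A.le)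
    (Nat.card_le_card_of_surjective (fun a : A' => ψ (dl (a : Γ) c₀) 0)
      fun t => let ⟨a, ha, e⟩ := surj t; ⟨⟨a, ha⟩, e⟩)
  have cX : Nat.card F * Nat.card F * Nat.card (fixA V (A ⊔ A')) = Nat.card V := by
    have a1 := card_sup_mul_card_inf_add (fixA V A') (fixA V A)
    have a2 := h.ms_eq hA
    have a3 := h.ms_eq hA'
    rw [hs, AddSubgroup.card_top, ← fixA_sup, sup_comm] at a1
    rw [ms, hn.card_A] at a2
    rw [ms, cA'] at a3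
    apply Nat.eq_of_mul_eq_mul_left pV
    calc _ = Nat.card F * Nat.card F * (Nat.card V * Nat.card (fixA V (A ⊔ A'))) := by ring
      _ = _ := by rw [a1]; nth_rewrite 1 [← a2]; rw [← a3]; ring
  have inj : ∀ a ∈ A', ∀ b ∈ A', ψ (dl a c₀) 0 = ψ (dl b c₀) 0 → a = b := fun a ha b hb e =>
    congrArg Subtype.val ((Function.Surjective.bijective_of_nat_card_le
      (f := fun a : A' => ψ (dl (a : Γ) c₀) 0) (fun t => let ⟨a, ha, e⟩ := surj t; ⟨⟨a, ha⟩, e⟩)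
        cA'.le).1 (a₁ := ⟨a, ha⟩) (a₂ := ⟨b, hb⟩) e)
  have hμ1 : μ₀ - 1 ≠ 0 := sub_ne_zero.2 h1
  have k3 : cmA V A' ≤ (fixA V A).map (dl (σ (dg μ₀ h0))) := cmA_le_iff.2 fun a ha v => by
    obtain ⟨w, hw, e'⟩ := dec v
    obtain ⟨a₃, ha₃, e3⟩ := surj (ψ (dl a c₀) 0 / (μ₀ - 1))
    obtain ⟨c, b, hb, -, e⟩ := k2 μ₀ h0 a₃ ha₃
    have e4 : a = b * a₃⁻¹ := inj a ha _ (mul_mem hb (inv_mem ha₃)) (by
      rw [qA'.dl_mul hb (inv_mem ha₃), qA'.dl_inv ha₃, map_add, map_neg, Pi.add_apply, Pi.neg_apply,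
        e c₀ hc₀, hn.dg0, e3]; field_simp; ring)
    refine ⟨dl a₃ w, p1 a₃ ha₃ w, ?_⟩
    rw [e' a ha, e4, qA'.dl_mul hb (inv_mem ha₃), qA'.dl_inv ha₃, e w hw, dl_apply (σ _),
      sub_eq_add_neg]
  have k4 : cmA V A' ≤ cmA V A := k3.trans (by
    rintro _ ⟨w, hw, rfl⟩; exact hn.dl_mem_cmA ⟨_, rfl⟩ (dN μ₀ h0) hw)
  have k5 : Nat.card (cmA V A) ≤ Nat.card F := by
    refine (d2 (cA'.trans hn.card_A.symm)).trans
      (Nat.card_le_card_of_injective (fun u => ψ u 0) fun u v e => Subtype.ext ?_)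
    obtain ⟨w, hw, e'⟩ := k3 (sub_mem u.2 v.2)
    have e1 : ψ (dl (σ (dg μ₀ h0)) w) 0 = 0 := by
      rw [e', map_sub, Pi.sub_apply]; exact sub_eq_zero.2 e
    rw [dl_apply, map_sub, Pi.sub_apply, hn.dg0, ← sub_one_mul, mul_eq_zero] at e1
    rw [← sub_eq_zero, ← e']
    exact dl_eq_zero (σ.mem_range.2 ⟨_, rfl⟩) (hn.mem_ker (e1.resolve_left hμ1) hw)
  have A0 : ∀ u ∈ cmA V A, ψ u 0 = 0 → u = 0 := fun u hu e =>
    congrArg Subtype.val ((Function.Surjective.bijective_of_nat_card_le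
      (f := fun u : cmA V A => ψ u 0) (fun t => let ⟨a, ha, e⟩ := hn.exists_cmA t
        ⟨⟨a, ha⟩, congrFun e 0⟩) k5).1 (a₁ := ⟨u, hu⟩) (a₂ := 0) (by simpa using e))
  set w := σ (wn 1 one_ne_zero) with hw
  have hwH : w ∈ σ.range := ⟨_, rfl⟩
  have w0 : ∀ v, ψ (w • v) 0 = ψ v 1 := fun v => by rw [hw, hn.eqv, mulVec_two, wn00, wn01]; ring
  have w1 : ∀ v, ψ (w • v) 1 = -ψ v 0 := fun v => by
    rw [hw, hn.eqv, mulVec_two, wn10, wn11]; simp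
  have B0 : ∀ u ∈ cmA V (H70.cj w A), ψ u 1 = 0 → u = 0 := fun u hu e => by
    have := w1 (w⁻¹ • u)
    rw [smul_inv_smul, e, eq_comm, neg_eq_zero] at this
    exact (smul_eq_zero_iff_eq _).1 (A0 _ (mem_cmA_cj.1 hu) this)
  have B1 : ∀ u ∈ cmA V (H70.cj w A), ψ u 0 = 0 := fun u hu => by
    have := w0 (w⁻¹ • u)
    rw [smul_inv_smul] at this
    rw [this, hn.fix]; exact prp_iff.1 qA (mem_cmA_cj.1 hu)
  have B2 : ∀ s, ∃ y ∈ cmA V (H70.cj w A), ψ y 1 = s := fun s => by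
    obtain ⟨u, hu, e⟩ := hn.exists_cmA (-s)
    exact ⟨w • u, smul_mem_cmA_cj w hu, by rw [w1, e]; simp⟩
  choose y hy hy' using B2
  have B3 : ∀ u ∈ cmA V (H70.cj w A), y (ψ u 1) = u := fun u hu => sub_eq_zero.1
    (B0 _ (sub_mem (hy _) hu) (by rw [map_sub, Pi.sub_apply, hy', sub_self]))
  have y1 : ∀ s t, y (s + t) = y s + y t := fun s t => by
    rw [← B3 _ (add_mem (hy s) (hy t)), map_add, Pi.add_apply, hy', hy']
  have y2 : ∀ (μ : F) (hμ : μ ≠ 0) s, (σ (dg μ hμ))⁻¹ • y s = y (μ * s) := fun μ hμ s => by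
    have : (σ (dg μ hμ))⁻¹ ∈ normalizer ((H70.cj w A : Subgroup Γ) : Set Γ) := by
      rw [← cj_eq_self_iff, ← cj_mul, hw, ← map_inv, ← map_mul, dg_mul_wn, map_mul, cj_mul,
        cj_eq_self (dN μ hμ)]
    rw [← B3 _ (smul_mem_cmA_of_norm this (hy s)), hn.dg_inv1, hy']
  have k6 : ∀ a ∈ A', ∃ c, ∀ s, ψ (dl a (y s)) 0 = c * s := fun a ha => by
    have k7 : ∀ (μ : F) (hμ : μ ≠ 0), ∃ c : F, ∃ b ∈ A', ψ (dl b c₀) 0 = μ * ψ (dl a c₀) 0 ∧
        ∀ s, c * s + ψ (dl b (y s)) 0 = μ * ψ (dl a (y (μ * s))) 0 := fun μ hμ => by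
      obtain ⟨c, b, hb, e1, e2⟩ := k2 μ hμ a ha
      refine ⟨c, b, hb, by rw [e2 c₀ hc₀, hn.dg0], fun s => ?_⟩
      rw [← y2 μ hμ, ← hn.dg0 μ hμ, ← dl_conj, ← e1,
        qX.dl_mul (mem_sup_left (hn.up_mem c)) (mem_sup_right hb), map_add, Pi.add_apply, hn.dl_up,
        hy']
      rfl
    refine exists_linear_of_rel (AddMonoidHom.mk' (fun s => ψ (dl a (y s)) 0) fun s t => by
      rw [y1, map_add, map_add, Pi.add_apply]) fun m n m0 n0 mn => ?_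
    obtain ⟨c₁, b₁, hb₁, e₁, f₁⟩ := k7 m m0
    obtain ⟨c₂, b₂, hb₂, e₂, f₂⟩ := k7 n n0
    obtain ⟨c₃, b₃, hb₃, e₃, f₃⟩ := k7 _ mn
    have e : b₃ = b₁ * b₂ := inj _ hb₃ _ (mul_mem hb₁ hb₂) (by
      rw [qA'.dl_mul hb₁ hb₂, map_add, Pi.add_apply, e₁, e₂, e₃, add_mul])
    refine ⟨c₃ - c₁ - c₂, fun s => ?_⟩
    have g₃ := f₃ s
    rw [e, qA'.dl_mul hb₁ hb₂, map_add, Pi.add_apply, add_mul m n s, y1, map_add, map_add,
      Pi.add_apply] at g₃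
    simp only [AddMonoidHom.mk'_apply]
    linear_combination f₁ s + f₂ s - g₃
  have hU : cmA V σ.range = cmA V A ⊔ cmA V (H70.cj w A) := by
    rw [← cmA_sup, hw, hn.sup_cj (by simp [wn10])]
  have cmX : cmA V (A ⊔ A') ≤ cmA V A := by rw [cmA_sup]; exact sup_le le_rfl k4
  set N := (A ⊔ A') ⊓ fixingSubgroup Γ (cmA V σ.range : Set V) with hN
  have k8 : ∀ a ∈ A', ∃ b ∈ A, b * a ∈ N := fun a ha => by
    obtain ⟨c, e⟩ := k6 a ha
    have hX := mul_mem (mem_sup_left (hn.up_mem (-c)) : _ ∈ A ⊔ A') (mem_sup_right ha)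
    refine ⟨_, hn.up_mem (-c), hX, zpowers_le.1 (le_fixing.2 ?_)⟩
    rw [hU]
    refine sup_le (pX.trans (fixA_anti (zpowers_le.2 hX))) fun u hu => ?_
    rw [mem_fix_zpowers, ← dl_eq_zero_iff, ← B3 u hu]
    refine A0 _ (cmX (dl_mem_cmA hX _)) ?_
    rw [qX.dl_mul (mem_sup_left (hn.up_mem _)) (mem_sup_right ha), map_add, Pi.add_apply, hn.dl_up,
      hy', e]
    simp
  choose! b hb hb' using k8
  have c1 : Nat.card F ≤ Nat.card N := by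
    rw [← cA']
    refine Nat.card_le_card_of_injective (fun a => ⟨b a * a, hb' a a.2⟩) fun a a' e => ?_
    have e1 : b a * a = b a' * a' := congrArg Subtype.val e
    have : (a : Γ) * (a' : Γ)⁻¹ ∈ A' ⊓ A := ⟨A'.mul_mem a.2 (A'.inv_mem a'.2), by
      rw [show (a : Γ) * (a' : Γ)⁻¹ = (b a)⁻¹ * b a' by
        rw [mul_inv_eq_iff_eq_mul, mul_assoc, ← e1, inv_mul_cancel_left]]
      exact A.mul_mem (A.inv_mem (hb a a.2)) (hb a' a'.2)⟩
    rw [h.ti hA' hA hne, mem_bot, mul_inv_eq_one] at this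
    exact Subtype.ext this
  have cN : cmA V N ≤ cmA V A := (cmA_mono inf_le_left).trans cmX
  have cN' : cmA V (H70.cj w N) ≤ cmA V (H70.cj w A) := fun v hv =>
    mem_cmA_cj.2 (cN (mem_cmA_cj.1 hv))
  have r1 : fixA V (A ⊔ A') ⊔ cmA V σ.range ≤ fixA V N :=
    sup_le (fixA_anti inf_le_left) (le_fixing.1 inf_le_right)
  have r2 : fixA V (A ⊔ A') ⊔ cmA V σ.range ≤ fixA V (N ⊔ H70.cj w N) := fun v hv =>
    mem_fix_sup.2 ⟨r1 hv, mem_fix_cj.2 (r1 (smul_mem_of_dl_mem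
      (AddSubgroup.mem_sup_right (dl_mem_cmA (inv_mem hwH) v)) hv))⟩
  have c2 := h.ms_le_of_prp (X := N ⊔ H70.cj w N) (prp_iff.2 (by
    refine le_trans ?_ (le_sup_right.trans r2)
    rw [cmA_sup, hU]; exact sup_le_sup cN cN'))
  have c3 := H69.card_mul_card_le N (H70.cj w N)
  rw [card_cj, show N ⊓ H70.cj w N = ⊥ from eq_bot_iff.2 fun g hg => h.faith g fun v =>
    dl_eq_zero_iff.1 (A0 _ (cN (dl_mem_cmA hg.1 v)) (B1 _ (cN' (dl_mem_cmA hg.2 v)))), card_bot,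
    mul_one] at c3
  have c4 := card_mul_card_le_add (fixA V (A ⊔ A')) (cmA V (H70.cj w A))
  rw [show fixA V (A ⊔ A') ⊓ cmA V (H70.cj w A) = ⊥ from eq_bot_iff.2 fun v hv =>
    B0 v hv.2 ((hn.fix v).2 (fixA_anti le_sup_left hv.1)), AddSubgroup.card_bot, mul_one] at c4
  have c5 : Nat.card F ≤ Nat.card (cmA V (H70.cj w A)) :=
    Nat.card_le_card_of_injective (fun s => ⟨y s, hy s⟩) fun s t e => by
      rw [← hy' s, ← hy' t, show y s = y t from congrArg Subtype.val e]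
  have c6 := AddSubgroup.card_le_of_le
    ((sup_le_sup_left (le_sup_right.trans hU.ge) _).trans r2)
  have c7 : Nat.card V * Nat.card F ≤ Nat.card V * 1 := by
    calc _ = (Nat.card F * Nat.card F) * (Nat.card (fixA V (A ⊔ A')) * Nat.card F) := by
          rw [← cX]; ring
      _ ≤ _ := Nat.mul_le_mul ((Nat.mul_le_mul c1 c1).trans c3)
          (((Nat.mul_le_mul_left _ c5).trans c4).trans c6)
      _ ≤ _ := by rw [mul_one]; exact c2
  exact Finite.one_lt_card.not_ge (Nat.le_of_mul_le_mul_left c7 pV)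

end Cfsg.Agent.H72
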